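import Cfsg.Agent.Lib.Lyons.Rep.Mats
import Cfsg.Agent.Lib.Lyons.Presentation

/-! The relations 44 to 65 hold for the matrices. -/

set_option autoImplicit false
set_option maxRecDepth 100000
set_option Elab.async false

namespace Cfsg.Agent.Lyons.Rep

theorem rels_ok2 : allLt (fun k => isOne (fred (relW (44 + k)))) 22 = true := by decide +kernel

end Cfsg.Agent.Lyons.Rep
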