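import Cfsg.Agent.Lib.Lyons.Rep.Check0
import Cfsg.Agent.Lib.Lyons.Rep.Check1
import Cfsg.Agent.Lib.Lyons.Rep.Check2
import Cfsg.Agent.Lib.Lyons.Rep.Check3

/-!
The matrices satisfy the relations, so the presented Lyons group has a representation of degree 111 over the
field with five elements; hence the image of `a` is not trivial.
-/

set_option autoImplicit false
set_option maxRecDepth 100000

namespace Cfsg.Agent.Lyons.Rep

open Cfsg.Agent.Lyons

noncomputable section

theorem rel_one {k : ℕ} (hk : k < 86) : wv genU (relW k) = 1 := by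
  rw [← wv_fred]
  rcases lt_or_ge k 22 with h0 | h0
  · have := allLt_spec rels_ok0 k h0
    rw [Nat.zero_add] at this
    exact isOne_spec this
  rcases lt_or_ge k 44 with h1 | h1
  · have := allLt_spec rels_ok1 (k - 22) (by omega)
    rw [show 22 + (k - 22) = k by omega] at this
    exact isOne_spec this
  rcases lt_or_ge k 66 with h2 | h2
  · have := allLt_spec rels_ok2 (k - 44) (by omega)
    rw [show 44 + (k - 44) = k by omega] at this
    exact isOne_spec this
  have := allLt_spec rels_ok3 (k - 66) (by omega)
  rw [show 66 + (k - 66) = k by omega] at this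
  exact isOne_spec this

/-- The image of a generator of the presentation. -/
def genImg (g : Cfsg.Spor.Ly.Gen) : M111ˣ := wv genU (code g)

/-- The value of a signed generator. -/
def imgVal (p : Cfsg.Spor.Ly.Gen × Bool) : M111ˣ := bif p.2 then genImg p.1 else (genImg p.1)⁻¹

theorem wv_expand_img (w : List (Cfsg.Spor.Ly.Gen × Bool)) :
    wv genU (expand code w) = (w.map imgVal).prod := by
  induction w with
  | nil => rfl
  | cons p w ih =>
    show wv genU ((bif p.2 then code p.1 else invL (code p.1)) ++ expand code w) = _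
    rw [wv_append, ih, List.map_cons, List.prod_cons]
    congr 1
    obtain ⟨g, b⟩ := p
    cases b
    · simp [imgVal, wv_invL, genImg]
    · simp [imgVal, genImg]

theorem extra_length : Cfsg.Spor.Ly.extra.length = 86 := by decide +kernel

theorem lift_rel : ∀ r ∈ Cfsg.Spor.coxRelators Cfsg.Spor.Ly.edges ∪ {r | r ∈ Cfsg.Spor.Ly.extra},
    FreeGroup.lift genImg r = 1 := by
  rintro r (⟨x, hx, -⟩ | hr)
  · simp [Cfsg.Spor.coxNodes, Cfsg.Spor.Ly.edges] at hx
  · obtain ⟨k, hk, rfl⟩ := List.getElem_of_mem hr
    have h86 : k < 86 := extra_length ▸ hk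
    have e := rel_one h86
    rw [relW, wv_expand_img, relT, List.getD_eq_getElem _ _ hk] at e
    rw [← FreeGroup.mk_toWord (x := Cfsg.Spor.Ly.extra[k]), FreeGroup.lift_mk]
    exact e

/-- The representation. -/
def rho : LyG →* M111ˣ := PresentedGroup.toGroup lift_rel

theorem rho_gOf (g : Cfsg.Spor.Ly.Gen) : rho (gOf g) = genImg g := PresentedGroup.toGroup.of _

/-- The matrix of `a` is not the identity. -/
def aCheck : Bool := !(Nat.beq (letM 0) idM)

theorem aCheck_ok : aCheck = true := by decide +kernel

/-- The image of `a` is not trivial. -/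
theorem exists_psiLy_ne_one : ∃ x, psiLy x ≠ 1 := by
  refine ⟨gen0 0, fun h => ?_⟩
  have e := congrArg rho h
  rw [psiLy_gen0 (by norm_num), map_one, show lyGen 0 = gOf .a from rfl, rho_gOf] at e
  have e0 : toM (letM 0) = 1 := by
    have : genImg .a = genU 0 := by
      rw [genImg, show code .a = [0] from rfl]
      simp [wv, lt']
    rw [this] at e
    have := congrArg (fun u : M111ˣ => (u : M111)) e
    simpa [genU] using this
  have hc := aCheck_ok
  rw [aCheck, toM_injective (letM_ok 0) idM_ok (e0.trans toM_idM.symm), Bool.not_eq_true'] at hc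
  exact Nat.ne_of_beq_eq_false hc rfl

end

end Cfsg.Agent.Lyons.Rep
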