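import Cfsg.Agent.Lib.Lyons.Rep.Data0
import Cfsg.Agent.Lib.Lyons.Rep.Data1
import Cfsg.Agent.Lib.Lyons.Rep.Data2
import Cfsg.Agent.Lib.Lyons.Rep.Data3
import Cfsg.Agent.Lib.Lyons.Rep.Base
import Cfsg.Agent.Lib.Lyons.Table

/-! The matrices of the letters, with their inverses. -/

set_option autoImplicit false
set_option maxRecDepth 100000

namespace Cfsg.Agent.Lyons.Rep

noncomputable section

/-- The matrices of the letters. -/
def letMats : List Nat := [letMat0, letMat1, letMat2, letMat3, letMat4, letMat5, letMat6, letMat7, letMat8, letMat9, letMat10, letMat11, letMat12, letMat13, letMat14, letMat15, letMat16, letMat17, letMat18, letMat19, letMat20, letMat21, letMat22, letMat23]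

/-- The matrix of a letter. -/
def letM (l : ℕ) : ℕ := letMats.getD l idM

/-- The matrices are in normal form and inverse in pairs. -/
def letCheck : Bool :=
  allLt (fun l => matOK (letM l)) 24 &&
    allLt (fun i => Nat.beq (mulP (letM (2 * i)) (letM (2 * i + 1))) idM &&
      Nat.beq (mulP (letM (2 * i + 1)) (letM (2 * i))) idM) 12

theorem letCheck_ok : letCheck = true := by decide +kernel

theorem letM_ok (l : ℕ) : matOK (letM l) = true := by
  rcases lt_or_ge l 24 with h | h
  · have hc := letCheck_ok
    simp only [letCheck, Bool.and_eq_true] at hc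
    exact allLt_spec hc.1 l h
  · rw [letM, List.getD_eq_default _ _ (by simpa [letMats] using h)]
    exact idM_ok

attribute [local irreducible] letM mulP idM toM

/-- The image of generator `i`. -/
def genU (i : ℕ) : M111ˣ :=
  if h : i < 12 then
    ⟨toM (letM (2 * i)), toM (letM (2 * i + 1)), by
      have hc := letCheck_ok
      simp only [letCheck, Bool.and_eq_true] at hc
      have := allLt_spec hc.2 i h
      simp only [Bool.and_eq_true] at this
      rw [← toM_mulP (letM_ok _) (letM_ok _), Nat.eq_of_beq_eq_true this.1, toM_idM], by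
      have hc := letCheck_ok
      simp only [letCheck, Bool.and_eq_true] at hc
      have := allLt_spec hc.2 i h
      simp only [Bool.and_eq_true] at this
      rw [← toM_mulP (letM_ok _) (letM_ok _), Nat.eq_of_beq_eq_true this.2, toM_idM]⟩
  else 1

theorem genU_val {i : ℕ} (h : i < 12) :
    (genU i : M111) = toM (letM (2 * i)) ∧ (((genU i)⁻¹ : M111ˣ) : M111) = toM (letM (2 * i + 1)) := by
  rw [genU, dif_pos h]
  exact ⟨rfl, rfl⟩

/-- The product along a word. -/
def wordMat (w : List ℕ) : ℕ :=
  List.rec (motive := fun _ => ℕ → ℕ) (fun acc => acc) (fun l _ r acc => forceN acc fun acc => r (mulP acc (letM l))) w idM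

theorem wordMat_aux : ∀ (w : List ℕ) (acc : ℕ), (∀ l ∈ w, l < 24) → matOK acc = true →
    matOK (List.rec (motive := fun _ => ℕ → ℕ) (fun a => a) (fun l _ r a => forceN a fun a => r (mulP a (letM l))) w acc) = true ∧
      toM (List.rec (motive := fun _ => ℕ → ℕ) (fun a => a) (fun l _ r a => forceN a fun a => r (mulP a (letM l))) w acc) =
        toM acc * (wv genU w : M111ˣ) := by
  intro w
  induction w with
  | nil => intro acc _ h; exact ⟨h, by simp⟩
  | cons l w ih =>
    intro acc hl h
    obtain ⟨h1, h2⟩ := ih (mulP acc (letM l)) (fun q hq => hl q (List.mem_cons_of_mem _ hq))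
      (mulP_matOK h (letM_ok l))
    show matOK (forceN acc fun a => _) = true ∧ toM (forceN acc fun a => _) = _
    rw [forceN_eq]
    refine ⟨h1, ?_⟩
    rw [h2, toM_mulP h (letM_ok l), wv_cons, Units.val_mul, ← mul_assoc]
    refine congrArg (fun x : M111 => toM acc * x * _) ?_
    have hl' : l / 2 < 12 := by have := hl l List.mem_cons_self; omega
    by_cases he : l % 2 = 0
    · rw [lt', if_pos he, (genU_val hl').1]
      exact congrArg (fun q => toM (letM q)) (show l = 2 * (l / 2) by omega)
    · rw [lt', if_neg he, (genU_val hl').2]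
      exact congrArg (fun q => toM (letM q)) (show l = 2 * (l / 2) + 1 by omega)

/-- A word maps to the identity. -/
def isOne (w : List ℕ) : Bool := (w.all fun l => Nat.blt l 24) && Nat.beq (wordMat w) idM

theorem isOne_spec {w : List ℕ} (h : isOne w = true) : wv genU w = 1 := by
  simp only [isOne, Bool.and_eq_true, List.all_eq_true, Nat.blt_eq] at h
  obtain ⟨-, h2⟩ := wordMat_aux w idM h.1 idM_ok
  refine Units.ext ?_
  rw [toM_idM, one_mul] at h2
  rw [← h2, show List.rec (motive := fun _ => ℕ → ℕ) (fun a => a) (fun l _ r a => forceN a fun a => r (mulP a (letM l))) w idM = wordMat w from rfl,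
    Nat.eq_of_beq_eq_true h.2, toM_idM]
  rfl

end

end Cfsg.Agent.Lyons.Rep
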